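import Groth.Agent.H8Lim.NoetherianModel
import Groth.Agent.LimSmooth.Affine
import Mathlib.AlgebraicGeometry.Morphisms.Smooth
import Mathlib.AlgebraicGeometry.Morphisms.FormallyUnramified

/-!
# Models over finitely generated rings for properties spreading from a limit
-/

set_option autoImplicit false
set_option linter.style.haveILetI false
universe u

open CategoryTheory CategoryTheory.Limits AlgebraicGeometry Opposite

namespace Groth.Agent.H10Spread

open Groth.Agent.H8Lim

/-- A property of morphisms that spreads from affine limits descends to a model of finite type over `ℤ`. -/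
theorem exists_model {P : MorphismProperty Scheme.{u}} [P.IsStableUnderBaseChange]
    [P.IsStableUnderComposition] [IsZariskiLocalAtSource P]
    (hA : LimSmooth.AffineSpreads P) (hιP : ∀ {A B : Scheme.{u}} (ι : A ⟶ B) [IsOpenImmersion ι], P ι)
    (A : Type u) [CommRing A] {X : Scheme.{u}}
    (f : X ⟶ Spec (CommRingCat.of A)) [LocallyOfFinitePresentation f] [QuasiCompact f] [QuasiSeparated f]
    (hf : P f) :
    ∃ A₀ : Subalgebra ℤ A, A₀.FG ∧
      ∃ (X₀ : Scheme.{u}) (f₀ : X₀ ⟶ Spec (CommRingCat.of ↥A₀)) (g : X ⟶ X₀),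
        P f₀ ∧ LocallyOfFinitePresentation f₀ ∧ QuasiCompact f₀ ∧
          IsPullback g f f₀ (Spec.map (CommRingCat.ofHom (algebraMap (↥A₀) A))) := by
  obtain ⟨j, Z, h, q, _, _, _, sq⟩ := exists_stage_spec (R := A) f
  haveI : CompactSpace Z := QuasiCompact.compactSpace_of_compactSpace h
  obtain ⟨k, φ, Xk, Yk, fk, gk, pY, pX, hY, hX, hk⟩ :=
    LimSmooth.exists_stage (isLimitFgSpecCone A) (g₀ := 𝟙 ((fgSpecDiagram A).obj j))
      (f₀ := h) (f := f) (g := 𝟙 (fgSpecCone A).pt)
      (qY := (fgSpecCone A).π.app j) (IsPullback.of_id_snd) sq hA hιP hf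
  haveI : IsIso gk := hY.isIso_snd_of_isIso
  have hP : P (fk ≫ gk) := (P.cancel_right_of_respectsIso fk gk).mpr hk
  refine ⟨fgSub A k.unop, ⟨k.unop, rfl⟩, _, pullback.snd h ((fgSpecDiagram A).map φ),
    pullback.lift q (f ≫ (fgSpecCone A).π.app k) (eq_later sq φ),
    prop_snd_of_isPullback (by simpa using hX.paste_vert hY) hP,
    MorphismProperty.of_isPullback (P := @LocallyOfFinitePresentation) (IsPullback.of_hasPullback _ _) ‹_›,
    MorphismProperty.of_isPullback (P := @QuasiCompact) (IsPullback.of_hasPullback _ _) ‹_›, ?_⟩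
  exact isPullback_later (D := fgSpecDiagram A) (c := fgSpecCone A) sq φ (eq_later sq φ)

end Groth.Agent.H10Spread
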